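import Mathlib
import Groth.Agent.H61.DefAlg.FlatColon

set_option linter.style.haveILetI false
set_option linter.unusedSectionVars false
set_option autoImplicit false

/-!
# The derivation attached to an automorphism congruent to the identity

`A` a local ring, `𝔞' ⊂ 𝔞 ≤ 𝔪` ideals with `𝔪 𝔞 ≤ 𝔞'` and `𝔞 = 𝔞' + (t)`, `t ∉ 𝔞'`.  For a flat
`A`-algebra `E` with `E/𝔪E = B` and an `A`-algebra endomorphism `φ` of `E` inducing the identity on
`B` and congruent to the identity modulo `𝔞E`, the rule `φ s - s ≡ t · y (mod 𝔞'E)` defines a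
derivation `π s ↦ π y` of `B`.
-/

namespace Groth.Agent.H61.Aut

open IsLocalRing Groth.Agent.H61.DefAlg

universe u v w

variable {A : Type u} [CommRing A] [IsLocalRing A]

/-- the ideal-theoretic datum of one step. -/
structure Step (𝔞 𝔞' : Ideal A) (t : A) : Prop where
  sup : 𝔞 = 𝔞' ⊔ Ideal.span {t}
  not_mem : t ∉ 𝔞'
  mul_le : maximalIdeal A * 𝔞 ≤ 𝔞'
  le_max : 𝔞 ≤ maximalIdeal A

namespace Step

variable {𝔞 𝔞' : Ideal A} {t : A} (S : Step 𝔞 𝔞' t)

include S in
lemma mem : t ∈ 𝔞 := by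
  rw [S.sup]
  exact Ideal.mem_sup_right (Ideal.mem_span_singleton_self t)

include S in
lemma le : 𝔞' ≤ 𝔞 := by
  rw [S.sup]
  exact le_sup_left

include S in
lemma colon_le : colon 𝔞' t ≤ maximalIdeal A := by
  apply IsLocalRing.le_maximalIdeal
  intro htop
  have : (1 : A) ∈ colon 𝔞' t := by rw [htop]; trivial
  rw [mem_colon, mul_one] at this
  exact S.not_mem this

end Step

/-- the local datum: a flat `A`-algebra with augmentation and an endomorphism congruent to the
identity modulo `𝔞`. -/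
structure Loc (A : Type u) [CommRing A] [IsLocalRing A] (𝔞 : Ideal A) (E : Type v) (B : Type w)
    [CommRing E] [Algebra A E] [CommRing B] where
  /-- the augmentation -/
  π : E →+* B
  /-- the endomorphism -/
  φ : E →ₐ[A] E
  flat : Module.Flat A E
  surj : Function.Surjective π
  ker : RingHom.ker π = (maximalIdeal A).map (algebraMap A E)
  πφ : ∀ s, π (φ s) = π s
  cong : ∀ s, φ s - s ∈ 𝔞.map (algebraMap A E)

namespace Loc

variable {𝔞 𝔞' : Ideal A} {t : A} (S : Step 𝔞 𝔞' t)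
variable {E : Type v} {B : Type w} [CommRing E] [Algebra A E] [CommRing B] (L : Loc A 𝔞 E B)

/-- the defining relation of the derivation. -/
def Rel (𝔞' : Ideal A) (t : A) (s y : E) : Prop :=
  L.φ s - s - algebraMap A E t * y ∈ 𝔞'.map (algebraMap A E)

include S in
lemma exists_rel (s : E) : ∃ y, L.Rel 𝔞' t s y := by
  have h0 : 𝔞.map (algebraMap A E) =
      𝔞'.map (algebraMap A E) ⊔ Ideal.span {algebraMap A E t} := by
    conv_lhs => rw [S.sup]
    rw [Ideal.map_sup, Ideal.map_span, Set.image_singleton]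
  have h := L.cong s
  rw [h0] at h
  obtain ⟨a, ha, b, hb, hab⟩ := Submodule.mem_sup.mp h
  obtain ⟨y, rfl⟩ := Ideal.mem_span_singleton'.mp hb
  refine ⟨y, ?_⟩
  unfold Rel
  rw [← hab]
  have : a + y * algebraMap A E t - algebraMap A E t * y = a := by ring
  rw [this]
  exact ha

include S in
/-- flatness: `t y ∈ 𝔞' E` forces `π y = 0`. -/
lemma π_eq_zero_of_mul_mem (y : E) (h : algebraMap A E t * y ∈ 𝔞'.map (algebraMap A E)) :
    L.π y = 0 := by
  haveI := L.flat
  have h1 : t • y ∈ 𝔞' • (⊤ : Submodule A E) := by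
    rw [Ideal.smul_top_eq_map, Submodule.restrictScalars_mem, Algebra.smul_def]
    exact h
  have h2 := mem_colon_smul_top_of_flat 𝔞' t y h1
  have h3 := Submodule.smul_mono_left (S.colon_le) h2
  rw [Ideal.smul_top_eq_map, Submodule.restrictScalars_mem, ← L.ker] at h3
  exact h3

include S in
lemma π_eq_of_rel {s y y' : E} (h : L.Rel 𝔞' t s y) (h' : L.Rel 𝔞' t s y') : L.π y = L.π y' := by
  have h1 : algebraMap A E t * (y' - y) ∈ 𝔞'.map (algebraMap A E) := by
    have := Ideal.sub_mem _ h h'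
    unfold Rel at *
    have e : L.φ s - s - algebraMap A E t * y - (L.φ s - s - algebraMap A E t * y') =
        algebraMap A E t * (y' - y) := by ring
    rwa [e] at this
  have h2 := L.π_eq_zero_of_mul_mem S _ h1
  rw [map_sub, sub_eq_zero] at h2
  exact h2.symm

include S in
/-- `φ z - z ∈ 𝔞' E` for `z ∈ 𝔪 E`. -/
lemma sub_mem_of_mem_max (z : E) (hz : z ∈ (maximalIdeal A).map (algebraMap A E)) :
    L.φ z - z ∈ 𝔞'.map (algebraMap A E) := by
  have hmul : (𝔞.map (algebraMap A E)) * ((maximalIdeal A).map (algebraMap A E)) ≤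
      𝔞'.map (algebraMap A E) := by
    rw [← Ideal.map_mul, mul_comm]
    exact Ideal.map_mono S.mul_le
  unfold Ideal.map at hz
  induction hz using Submodule.span_induction with
  | mem x hx =>
    obtain ⟨a, -, rfl⟩ := hx
    rw [AlgHom.commutes, sub_self]
    exact Ideal.zero_mem _
  | zero => rw [map_zero, sub_self]; exact Ideal.zero_mem _
  | add x y _ _ hx hy =>
    have : L.φ (x + y) - (x + y) = (L.φ x - x) + (L.φ y - y) := by rw [map_add]; ring
    rw [this]
    exact Ideal.add_mem _ hx hy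
  | smul e x hx' hx =>
    have : L.φ (e • x) - e • x = L.φ e * (L.φ x - x) + (L.φ e - e) * x := by
      rw [smul_eq_mul, map_mul]; ring
    rw [this]
    refine Ideal.add_mem _ (Ideal.mul_mem_left _ _ hx) (hmul ?_)
    exact Ideal.mul_mem_mul (L.cong e) hx'

include S in
lemma π_eq_of_rel_of_π_eq {s s' y y' : E} (hs : L.π s = L.π s') (h : L.Rel 𝔞' t s y)
    (h' : L.Rel 𝔞' t s' y') : L.π y = L.π y' := by
  have hz : s - s' ∈ (maximalIdeal A).map (algebraMap A E) := by
    rw [← L.ker, RingHom.mem_ker, map_sub, hs, sub_self]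
  have h1 := L.sub_mem_of_mem_max S _ hz
  have h2 : L.Rel 𝔞' t s' y := by
    unfold Rel at *
    have e : L.φ s' - s' - algebraMap A E t * y =
        (L.φ s - s - algebraMap A E t * y) - (L.φ (s - s') - (s - s')) := by
      rw [map_sub]; ring
    rw [e]
    exact Ideal.sub_mem _ h h1
  exact L.π_eq_of_rel S h2 h'

/-- the derivation, as a function. -/
noncomputable def Dfun (b : B) : B :=
  L.π (L.exists_rel S (Function.surjInv L.surj b)).choose

include S in
lemma Dfun_eq {s y : E} (h : L.Rel 𝔞' t s y) : L.Dfun S (L.π s) = L.π y := by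
  unfold Dfun
  exact L.π_eq_of_rel_of_π_eq S (Function.surjInv_eq L.surj _)
    (L.exists_rel S (Function.surjInv L.surj (L.π s))).choose_spec h

lemma rel_add {s s' y y' : E} (h : L.Rel 𝔞' t s y) (h' : L.Rel 𝔞' t s' y') :
    L.Rel 𝔞' t (s + s') (y + y') := by
  unfold Rel at *
  have e : L.φ (s + s') - (s + s') - algebraMap A E t * (y + y') =
      (L.φ s - s - algebraMap A E t * y) + (L.φ s' - s' - algebraMap A E t * y') := by
    rw [map_add]; ring
  rw [e]
  exact Ideal.add_mem _ h h'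

include S in
lemma rel_mul {s s' y y' : E} (h : L.Rel 𝔞' t s y) (h' : L.Rel 𝔞' t s' y') :
    L.Rel 𝔞' t (s * s') (s * y' + s' * y) := by
  unfold Rel at *
  have e : L.φ (s * s') - s * s' - algebraMap A E t * (s * y' + s' * y) =
      s * (L.φ s' - s' - algebraMap A E t * y') + s' * (L.φ s - s - algebraMap A E t * y) +
        (L.φ s - s) * (L.φ s' - s') := by
    rw [map_mul]; ring
  rw [e]
  refine Ideal.add_mem _ (Ideal.add_mem _ (Ideal.mul_mem_left _ _ h') (Ideal.mul_mem_left _ _ h)) ?_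
  have hmul : (𝔞.map (algebraMap A E)) * (𝔞.map (algebraMap A E)) ≤ 𝔞'.map (algebraMap A E) := by
    rw [← Ideal.map_mul]
    exact Ideal.map_mono ((Ideal.mul_mono_left S.le_max).trans S.mul_le)
  exact hmul (Ideal.mul_mem_mul (L.cong s) (L.cong s'))

lemma rel_algebraMap (a : A) : L.Rel 𝔞' t (algebraMap A E a) 0 := by
  unfold Rel
  rw [AlgHom.commutes, sub_self, mul_zero, sub_zero]
  exact Ideal.zero_mem _

include S in
theorem Dfun_add (b b' : B) : L.Dfun S (b + b') = L.Dfun S b + L.Dfun S b' := by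
  obtain ⟨s, rfl⟩ := L.surj b
  obtain ⟨s', rfl⟩ := L.surj b'
  obtain ⟨y, hy⟩ := L.exists_rel S s
  obtain ⟨y', hy'⟩ := L.exists_rel S s'
  rw [← map_add, L.Dfun_eq S (L.rel_add hy hy'), L.Dfun_eq S hy, L.Dfun_eq S hy', map_add]

include S in
theorem Dfun_mul (b b' : B) : L.Dfun S (b * b') = b * L.Dfun S b' + b' * L.Dfun S b := by
  obtain ⟨s, rfl⟩ := L.surj b
  obtain ⟨s', rfl⟩ := L.surj b'
  obtain ⟨y, hy⟩ := L.exists_rel S s
  obtain ⟨y', hy'⟩ := L.exists_rel S s'
  rw [← map_mul, L.Dfun_eq S (L.rel_mul S hy hy'), L.Dfun_eq S hy, L.Dfun_eq S hy', map_add,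
    map_mul, map_mul]

include S in
theorem Dfun_algebraMap (a : A) : L.Dfun S (L.π (algebraMap A E a)) = 0 := by
  rw [L.Dfun_eq S (L.rel_algebraMap a), map_zero]

include S in
/-- if the derivation vanishes, the endomorphism is congruent to the identity modulo `𝔞'`. -/
theorem sub_mem_of_Dfun_eq_zero (h : ∀ b, L.Dfun S b = 0) (s : E) :
    L.φ s - s ∈ 𝔞'.map (algebraMap A E) := by
  obtain ⟨y, hy⟩ := L.exists_rel S s
  have h1 : L.π y = 0 := by rw [← L.Dfun_eq S hy]; exact h _
  have h2 : y ∈ (maximalIdeal A).map (algebraMap A E) := by rw [← L.ker]; exact h1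
  have h3 : algebraMap A E t * y ∈ 𝔞'.map (algebraMap A E) := by
    have hmul : (𝔞.map (algebraMap A E)) * ((maximalIdeal A).map (algebraMap A E)) ≤
        𝔞'.map (algebraMap A E) := by
      rw [← Ideal.map_mul, mul_comm]
      exact Ideal.map_mono S.mul_le
    exact hmul (Ideal.mul_mem_mul (Ideal.mem_map_of_mem _ S.mem) h2)
  unfold Rel at hy
  have e : L.φ s - s = (L.φ s - s - algebraMap A E t * y) + algebraMap A E t * y := by ring
  rw [e]
  exact Ideal.add_mem _ hy h3

section Nat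

variable {E₁ : Type v} {B₁ : Type w} [CommRing E₁] [Algebra A E₁] [CommRing B₁]
  (L₁ : Loc A 𝔞 E₁ B₁) (ρ : E →ₐ[A] E₁) (ρ₀ : B →+* B₁)
  (hπ : ∀ s, L₁.π (ρ s) = ρ₀ (L.π s)) (hφ : ∀ s, L₁.φ (ρ s) = ρ (L.φ s))

include hφ in
lemma rel_map {s y : E} (h : L.Rel 𝔞' t s y) : L₁.Rel 𝔞' t (ρ s) (ρ y) := by
  unfold Rel at *
  have h1 : ρ (L.φ s - s - algebraMap A E t * y) ∈ 𝔞'.map (algebraMap A E₁) := by
    have h2 : (𝔞'.map (algebraMap A E)).map (ρ : E →+* E₁) = 𝔞'.map (algebraMap A E₁) := by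
      rw [Ideal.map_map]
      congr 1
      ext a
      exact ρ.commutes a
    rw [← h2]
    exact Ideal.mem_map_of_mem _ h
  rw [map_sub, map_sub, map_mul, AlgHom.commutes, ← hφ] at h1
  exact h1

include S hπ hφ in
/-- naturality of the derivation. -/
theorem Dfun_map (b : B) : L₁.Dfun S (ρ₀ b) = ρ₀ (L.Dfun S b) := by
  obtain ⟨s, rfl⟩ := L.surj b
  obtain ⟨y, hy⟩ := L.exists_rel S s
  rw [← hπ, L₁.Dfun_eq S (L.rel_map L₁ ρ hφ hy), L.Dfun_eq S hy, hπ]

end Nat

end Loc

end Groth.Agent.H61.Aut
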