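import Groth.Agent.H44.OmegaUniversal

set_option linter.style.haveILetI false
set_option linter.unusedSectionVars false
set_option autoImplicit false

/-!
# A morphism `Ω_{X/Y} ⟶ O_X` from compatible derivations on a basis of affine charts
-/

universe u
open CategoryTheory Opposite AlgebraicGeometry TopologicalSpace TensorProduct Scheme.Modules

namespace Groth.Agent.H61.Aut

open Groth.Agent.H44

variable {X Y : Scheme.{u}} (f : X ⟶ Y)

/-- a derivation of `Γ(X, U)` over `Γ(Y, V)` gives a linear map on sections of `Ω` over the chart. -/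
theorem exists_linearMap_of_derivation [QuasiSeparated f] {U : X.Opens} {V : Y.Opens}
    (hU : IsAffineOpen U) (hV : IsAffineOpen V) (e : U ≤ f ⁻¹ᵁ V)
    (D : Γ(X, U) → Γ(X, U)) (hadd : ∀ a b, D (a + b) = D a + D b)
    (hmul : ∀ a b, D (a * b) = a * D b + b * D a)
    (hlin : ∀ r, D (f.appLE V U e r) = 0) :
    ∃ φ : Γ(Omega.sheaf f, U) →ₗ[Γ(X, U)] Γ(Coh.structureModule X, U),
      ∀ s, φ (OmegaSh.dSect f U s) = OmegaSh.strSect X U (D s) := by
  letI alg1 : Algebra Γ(Y, V) Γ(X, U) := (f.appLE V U e).hom.toAlgebra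
  letI modR : Module Γ(Y, V) Γ(Coh.structureModule X, U) :=
    Module.compHom _ (algebraMap Γ(Y, V) Γ(X, U))
  haveI : IsScalarTower Γ(Y, V) Γ(X, U) Γ(Coh.structureModule X, U) :=
    IsScalarTower.of_algebraMap_smul fun _ _ => rfl
  obtain ⟨Φ, hΦ⟩ := exists_omega_kaehler_equiv f hU hV e
  have hsmul : ∀ a b : Γ(X, U), OmegaSh.strSect X U (a * b) = a • OmegaSh.strSect X U b :=
    fun a b => rfl
  let D₀ : Γ(X, U) →ₗ[Γ(Y, V)] Γ(Coh.structureModule X, U) :=
    { toFun := fun s => OmegaSh.strSect X U (D s)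
      map_add' := fun a b => by rw [hadd, map_add]
      map_smul' := fun r a => by
        rw [Algebra.smul_def, hmul]
        change OmegaSh.strSect X U (_ + a * D (f.appLE V U e r)) = _
        rw [hlin, mul_zero, add_zero, hsmul]
        rfl }
  let d' : Derivation Γ(Y, V) Γ(X, U) Γ(Coh.structureModule X, U) :=
    Derivation.mk' D₀ (fun a b => by
      change OmegaSh.strSect X U (D (a * b)) = a • OmegaSh.strSect X U (D b) +
        b • OmegaSh.strSect X U (D a)
      rw [hmul, map_add, hsmul, hsmul])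
  refine ⟨d'.liftKaehlerDifferential ∘ₗ Φ.toLinearMap, fun s => ?_⟩
  change d'.liftKaehlerDifferential (Φ (OmegaSh.dSect f U s)) = _
  rw [hΦ, Derivation.liftKaehlerDifferential_comp_D]
  rfl

/-- **Gluing derivations on a basis of charts.** -/
theorem exists_hom_of_local_derivations [QuasiSeparated f] {ι : Type*} (B : ι → X.Opens)
    (hB : Opens.IsBasis (Set.range B)) (hBaff : ∀ i, IsAffineOpen (B i)) (V : ι → Y.Opens)
    (hV : ∀ i, IsAffineOpen (V i)) (hle : ∀ i, B i ≤ f ⁻¹ᵁ V i)
    (D : ∀ i, Γ(X, B i) → Γ(X, B i))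
    (hadd : ∀ i a b, D i (a + b) = D i a + D i b)
    (hmul : ∀ i a b, D i (a * b) = a * D i b + b * D i a)
    (hlin : ∀ i r, D i (f.appLE (V i) (B i) (hle i) r) = 0)
    (hres : ∀ i j (h : B j ≤ B i) (s : Γ(X, B i)), D j (X.presheaf.map (homOfLE h).op s) =
      X.presheaf.map (homOfLE h).op (D i s)) :
    ∃ α : Omega.sheaf f ⟶ Coh.structureModule X,
      ∀ i s, α.app (B i) (OmegaSh.dSect f (B i) s) = OmegaSh.strSect X (B i) (D i s) := by
  choose φ hφ using fun i => exists_linearMap_of_derivation f (hBaff i) (hV i) (hle i) (D i)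
    (hadd i) (hmul i) (hlin i)
  have hspan : ∀ i, Submodule.span Γ(X, B i) (Set.range (OmegaSh.dSect f (B i))) = ⊤ :=
    fun i => span_range_dSect f ⟨B i, V i, hBaff i, hV i, hle i⟩
  have hcompat : ∀ (i j : ι) (h : B j ≤ B i) (m : Γ(Omega.sheaf f, B i)),
      φ j ((Omega.sheaf f).presheaf.map (homOfLE h).op m) =
        (Coh.structureModule X).presheaf.map (homOfLE h).op (φ i m) := by
    intro i j h m
    have hm : m ∈ Submodule.span Γ(X, B i) (Set.range (OmegaSh.dSect f (B i))) := by
      rw [hspan]; trivial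
    induction hm using Submodule.span_induction with
    | mem x hx =>
      obtain ⟨s, rfl⟩ := hx
      have := OmegaSh.dSect_map f h s
      erw [← this]
      rw [hφ, hφ, hres]
      rfl
    | zero => simp
    | add x y _ _ hx hy => rw [map_add, map_add, hx, hy, map_add, map_add]
    | smul a x _ hx =>
      rw [presheaf_map_smul, _root_.map_smul, hx, _root_.map_smul (φ i), presheaf_map_smul]
  refine ⟨homOfBasis B hB φ hcompat, fun i s => ?_⟩
  rw [homOfBasis_app B hB φ hcompat i, hφ]

end Groth.Agent.H61.Aut
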