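import Mathlib
import Groth.Prelude.Def_ArtFun4
import Groth.Agent.H19.ComapAff
import Groth.Agent.H61.AffThick.DefAffine
import Groth.Agent.H61.DefAlg.Dict

set_option linter.style.haveILetI false
set_option linter.unusedSectionVars false
set_option autoImplicit false

/-!
# Sections of a deformation over affine opens, and endomorphisms of deformations
-/

open AlgebraicGeometry CategoryTheory CategoryTheory.Limits Opposite TopologicalSpace

namespace Groth.Agent.H61.Aut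

universe u

open ArtFun ArtFun.Art Groth.Agent.H61.AffThick Groth.Agent.H61.DefAlg

variable {Λ : Type u} {k : Type u} [CommRing Λ] [Field k] [Algebra Λ k]
variable {X : Scheme.{u}} {x : X ⟶ specPt k} {A : Art Λ k} (ξ : DefSch X x A)

/-- the structure ring map `A → Γ(total, U')`. -/
noncomputable def str (U' : ξ.total.Opens) : A →+* Γ(ξ.total, U') :=
  (ξ.f.appLE ⊤ U' le_top).hom.comp (Scheme.ΓSpecIso (CommRingCat.of A)).inv.hom

lemma str_apply (U' : ξ.total.Opens) (a : A) :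
    str ξ U' a = (ξ.f.appLE ⊤ U' le_top).hom ((Scheme.ΓSpecIso (CommRingCat.of A)).inv.hom a) := rfl

lemma str_res {U' V' : ξ.total.Opens} (h : V' ≤ U') (a : A) :
    (ξ.total.presheaf.map (homOfLE h).op).hom (str ξ U' a) = str ξ V' a := by
  rw [str_apply, str_apply]
  have := ξ.f.appLE_map (U := ⊤) (V := U') (V' := V') le_top (homOfLE h).op
  exact ConcreteCategory.congr_hom this _

theorem str_flat {U' : ξ.total.Opens} (hU' : IsAffineOpen U') : (str ξ U').Flat := by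
  have h1 : (ξ.f.appLE ⊤ U' le_top).hom.Flat :=
    Scheme.Hom.flat_appLE ξ.f (isAffineOpen_top _) hU' le_top
  have h2 : (Scheme.ΓSpecIso (CommRingCat.of A)).inv.hom.Flat :=
    RingHom.Flat.of_bijective (ConcreteCategory.bijective_of_isIso _)
  exact RingHom.Flat.comp h2 h1

theorem aug_surjective {U' : ξ.total.Opens} (hU' : IsAffineOpen U') :
    Function.Surjective (ξ.i.app U').hom := by
  haveI := DefSch.isClosedImmersion_i ξ
  exact ξ.i.app_surjective U' hU'

theorem ker_aug {U' : ξ.total.Opens} (hU' : IsAffineOpen U') :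
    RingHom.ker (ξ.i.app U').hom = (IsLocalRing.maximalIdeal A).map (str ξ U') := by
  haveI := DefSch.isClosedImmersion_i ξ
  haveI := isClosedImmersion_specRes A
  have h1 : ξ.i.ker = (specRes A).ker.comap ξ.f := ker_eq_comap_of_isPullback ξ.isPullback
  have h2 := congrArg (fun K => K.ideal ⟨U', hU'⟩) h1
  simp only at h2
  rw [Scheme.Hom.ker_apply,
    Groth.Agent.H19.ComapAff.ideal_comap_appLE ξ.f _ ⟨⊤, isAffineOpen_top _⟩ ⟨U', hU'⟩ le_top,
    Scheme.Hom.ker_apply] at h2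
  have h3 : RingHom.ker ((specRes A).app ⊤).hom =
      (IsLocalRing.maximalIdeal A).map (Scheme.ΓSpecIso (CommRingCat.of A)).inv.hom :=
    ker_specRes_appTop A
  rw [h3, Ideal.map_map] at h2
  exact h2

/-- compatibility of the augmentation with the structure maps. -/
lemma aug_str (U' : ξ.total.Opens) (a : A) :
    (ξ.i.app U').hom (str ξ U' a) =
      (x.appLE ⊤ (ξ.i ⁻¹ᵁ U') le_top).hom
        ((Scheme.ΓSpecIso (CommRingCat.of k)).inv.hom (A.res a)) := by
  have h1 : ξ.f.appLE ⊤ U' le_top ≫ ξ.i.app U' =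
      (specRes A).appTop ≫ x.appLE ⊤ (ξ.i ⁻¹ᵁ U') le_top := by
    rw [Scheme.Hom.app_eq_appLE, Scheme.Hom.appLE_comp_appLE]
    have h2 : ∀ (g g' : X ⟶ spec A) (h : g = g') (e : ξ.i ⁻¹ᵁ U' ≤ g ⁻¹ᵁ ⊤),
        g.appLE ⊤ (ξ.i ⁻¹ᵁ U') e = g'.appLE ⊤ (ξ.i ⁻¹ᵁ U') le_top := by
      intro g g' h e
      subst h
      rfl
    rw [h2 _ _ ξ.i_f, Scheme.Hom.comp_appLE]
    rfl
  have h3 := ConcreteCategory.congr_hom h1 ((Scheme.ΓSpecIso (CommRingCat.of A)).inv.hom a)
  have h4 := ConcreteCategory.congr_hom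
    (Scheme.ΓSpecIso_inv_naturality (CommRingCat.ofHom A.res.toRingHom)) a
  simp only [CommRingCat.comp_apply] at h3 h4
  change (ξ.i.app U').hom ((ξ.f.appLE ⊤ U' le_top).hom _) = _
  rw [h3]
  congr 1
  exact h4.symm

section Surj

lemma subsingleton_spec (A : Art Λ k) : Subsingleton (spec A) := by
  constructor
  intro p q
  have hp : ∀ r : PrimeSpectrum A, r.asIdeal = IsLocalRing.maximalIdeal A := by
    intro r
    haveI := r.isPrime
    haveI : r.asIdeal.IsMaximal := IsArtinianRing.isMaximal_of_isPrime r.asIdeal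
    exact IsLocalRing.eq_maximalIdeal inferInstance
  exact PrimeSpectrum.ext ((hp p).trans (hp q).symm)

lemma surjective_specRes (A : Art Λ k) : Surjective (specRes A) := by
  constructor
  intro p
  haveI := subsingleton_spec A
  have : Nonempty (specPt k) := inferInstance
  obtain ⟨q⟩ := this
  exact ⟨q, Subsingleton.elim _ _⟩

theorem surjective_i : Function.Surjective ξ.i.base := by
  haveI := surjective_specRes A
  have : Surjective ξ.i :=
    MorphismProperty.of_isPullback (P := @Surjective) ξ.isPullback.flip inferInstance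
  exact this.surj

/-- preimages of affine opens of the total space form a basis of `X`. -/
theorem isBasis_preimage_affine :
    Opens.IsBasis (Set.range (fun c : ξ.total.affineOpens => ξ.i ⁻¹ᵁ c.1)) := by
  haveI := DefSch.isClosedImmersion_i ξ
  rw [Opens.isBasis_iff_nbhd]
  intro W p hp
  have hind : Topology.IsInducing ξ.i.base := ξ.i.isClosedEmbedding.isInducing
  obtain ⟨W', hW'o, hW'⟩ := hind.isOpen_iff.mp W.2
  let W'' : ξ.total.Opens := ⟨W', hW'o⟩
  have hpW : ξ.i.base p ∈ W'' := by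
    change p ∈ ξ.i.base ⁻¹' W'
    rw [hW']
    exact hp
  obtain ⟨U', hU', hpU, hUW⟩ := Opens.isBasis_iff_nbhd.mp ξ.total.isBasis_affineOpens hpW
  refine ⟨ξ.i ⁻¹ᵁ U', ⟨⟨U', hU'⟩, rfl⟩, hpU, ?_⟩
  intro q hq
  have : ξ.i.base q ∈ W' := hUW hq
  change q ∈ W.carrier
  rw [← hW']
  exact this

lemma le_of_preimage_le {U' V' : ξ.total.Opens} (h : ξ.i ⁻¹ᵁ V' ≤ ξ.i ⁻¹ᵁ U') : V' ≤ U' := by
  intro p hp
  obtain ⟨q, rfl⟩ := surjective_i ξ p
  exact h hp

end Surj

section Endo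

variable (ψ : ξ.total ⟶ ξ.total) (hf : ψ ≫ ξ.f = ξ.f) (hi : ξ.i ≫ ψ = ξ.i)

include hi in
lemma base_eq (p : ξ.total) : ψ.base p = p := by
  obtain ⟨q, rfl⟩ := surjective_i ξ p
  have := congrArg (fun g : X ⟶ ξ.total => g.base q) hi
  exact this

include hi in
lemma le_preimage (U' : ξ.total.Opens) : U' ≤ ψ ⁻¹ᵁ U' := by
  intro p hp
  change ψ.base p ∈ U'
  rw [base_eq ξ ψ hi p]
  exact hp

/-- the action of an endomorphism on sections. -/
noncomputable def sec (U' : ξ.total.Opens) : Γ(ξ.total, U') →+* Γ(ξ.total, U') :=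
  (ψ.appLE U' U' (le_preimage ξ ψ hi U')).hom

include hf in
lemma sec_str (U' : ξ.total.Opens) (a : A) : sec ξ ψ hi U' (str ξ U' a) = str ξ U' a := by
  have h1 : ξ.f.appLE ⊤ U' le_top ≫ ψ.appLE U' U' (le_preimage ξ ψ hi U') =
      ξ.f.appLE ⊤ U' le_top := by
    rw [Scheme.Hom.appLE_comp_appLE]
    have h2 : ∀ (g g' : ξ.total ⟶ spec A) (h : g = g') (e : U' ≤ g ⁻¹ᵁ ⊤),
        g.appLE ⊤ U' e = g'.appLE ⊤ U' le_top := by
      intro g g' h e
      subst h
      rfl
    exact h2 _ _ hf _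
  exact ConcreteCategory.congr_hom h1 _

lemma aug_sec (U' : ξ.total.Opens) (s : Γ(ξ.total, U')) :
    (ξ.i.app U').hom (sec ξ ψ hi U' s) = (ξ.i.app U').hom s := by
  have h1 : ψ.appLE U' U' (le_preimage ξ ψ hi U') ≫ ξ.i.app U' = ξ.i.app U' := by
    rw [Scheme.Hom.app_eq_appLE, Scheme.Hom.appLE_comp_appLE]
    have h2 : ∀ (g g' : X ⟶ ξ.total) (h : g = g') (e : ξ.i ⁻¹ᵁ U' ≤ g ⁻¹ᵁ U'),
        g.appLE U' (ξ.i ⁻¹ᵁ U') e = g'.appLE U' (ξ.i ⁻¹ᵁ U') (h ▸ e) := by
      intro g g' h e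
      subst h
      rfl
    exact h2 _ _ hi _
  exact ConcreteCategory.congr_hom h1 s

lemma sec_res {U' V' : ξ.total.Opens} (h : V' ≤ U') (s : Γ(ξ.total, U')) :
    sec ξ ψ hi V' ((ξ.total.presheaf.map (homOfLE h).op).hom s) =
      (ξ.total.presheaf.map (homOfLE h).op).hom (sec ξ ψ hi U' s) := by
  have h1 : ξ.total.presheaf.map (homOfLE h).op ≫ ψ.appLE V' V' (le_preimage ξ ψ hi V') =
      ψ.appLE U' U' (le_preimage ξ ψ hi U') ≫ ξ.total.presheaf.map (homOfLE h).op := by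
    rw [Scheme.Hom.map_appLE, Scheme.Hom.appLE_map]
  exact ConcreteCategory.congr_hom h1 s

/-- an endomorphism acting trivially on sections over affine opens is the identity. -/
theorem eq_id_of_sec
    (h : ∀ (U' : ξ.total.Opens), IsAffineOpen U' → ∀ s, sec ξ ψ hi U' s = s) : ψ = 𝟙 _ := by
  refine Scheme.Cover.hom_ext
    (ξ.total.openCoverOfIsOpenCover _ (iSup_affineOpens_eq_top ξ.total)) _ _ ?_
  intro c
  change c.1.ι ≫ ψ = c.1.ι ≫ 𝟙 _
  rw [Category.comp_id, ← Scheme.Hom.resLE_comp_ι ψ (le_preimage ξ ψ hi c.1)]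
  have key : ψ.resLE c.1 c.1 (le_preimage ξ ψ hi c.1) = 𝟙 _ := by
    haveI : IsAffine ↑c.1 := c.2
    apply ext_of_isAffine
    have h1 := Scheme.Hom.resLE_appLE ψ (le_preimage ξ ψ hi c.1) ⊤ ⊤ le_top
    have h2 : (ψ.resLE c.1 c.1 (le_preimage ξ ψ hi c.1)).appTop =
        (ψ.resLE c.1 c.1 (le_preimage ξ ψ hi c.1)).appLE ⊤ ⊤ le_top :=
      Scheme.Hom.app_eq_appLE _
    rw [h2, h1]
    have hU'' : IsAffineOpen (c.1.ι ''ᵁ ⊤) := by
      rw [Scheme.Opens.ι_image_top]
      exact c.2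
    ext s
    exact h _ hU'' s
  rw [key, Category.id_comp]

end Endo

end Groth.Agent.H61.Aut
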