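import Mathlib

set_option linter.style.haveILetI false
set_option linter.unusedSectionVars false
set_option autoImplicit false

/-!
# Twisting a morphism of schemes by a square-zero section and a derivation

Given `g : T ⟶ X`, a global section `ε` of `T` with `ε * ε = 0`, and a compatible family of
additive self-maps `D V` of `Γ(X, V)` satisfying the Leibniz rule, we construct the morphism
`twist g ε D : T ⟶ X` with the same underlying map as `g` and with
`s ↦ g^♯ s + ε • g^♯ (D s)` on sections.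
-/

open AlgebraicGeometry CategoryTheory CategoryTheory.Limits Opposite TopologicalSpace

namespace Groth.Agent.H61.Aut

universe u

/-- A compatible family of derivations of the structure sheaf into itself. -/
structure SelfDer (X : Scheme.{u}) where
  D : ∀ V : X.Opens, Γ(X, V) →+ Γ(X, V)
  mul : ∀ (V : X.Opens) (a b : Γ(X, V)), D V (a * b) = a * D V b + b * D V a
  res : ∀ {U V : X.Opens} (h : V ≤ U) (s : Γ(X, U)),
    D V ((X.presheaf.map (homOfLE h).op).hom s) = (X.presheaf.map (homOfLE h).op).hom (D U s)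

namespace SelfDer

variable {X : Scheme.{u}} (δ : SelfDer X)

lemma one (V : X.Opens) : δ.D V 1 = 0 := by
  have := δ.mul V 1 1
  rw [mul_one, one_mul] at this
  have h2 : δ.D V 1 + 0 = δ.D V 1 + δ.D V 1 := by rw [add_zero]; exact this
  exact (add_left_cancel h2).symm

/-- the negative of a family of derivations -/
def neg : SelfDer X where
  D V := -δ.D V
  mul V a b := by
    simp only [AddMonoidHom.neg_apply, δ.mul]
    ring
  res h s := by
    simp only [AddMonoidHom.neg_apply, δ.res h, map_neg]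

@[simp] lemma neg_D (V : X.Opens) (s : Γ(X, V)) : δ.neg.D V s = -δ.D V s := rfl

end SelfDer

section Twist

variable {T X : Scheme.{u}} (g : T ⟶ X) (ε : Γ(T, ⊤)) (hε : ε * ε = 0) (δ : SelfDer X)

/-- restriction of the global section `ε` -/
noncomputable def epsRes (W : T.Opens) : Γ(T, W) := (T.presheaf.map (homOfLE le_top).op).hom ε

lemma epsRes_res {W W' : T.Opens} (h : W' ≤ W) :
    (T.presheaf.map (homOfLE h).op).hom (epsRes ε W) = epsRes ε W' := by
  unfold epsRes
  rw [← CommRingCat.comp_apply, ← Functor.map_comp]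
  rfl

include hε in
lemma epsRes_mul_self (W : T.Opens) : epsRes ε W * epsRes ε W = 0 := by
  unfold epsRes
  rw [← map_mul, hε, map_zero]

/-- the twisted map on sections -/
noncomputable def twistApp (V : X.Opens) : Γ(X, V) →+* Γ(T, g ⁻¹ᵁ V) where
  toFun s := (g.app V).hom s + epsRes ε (g ⁻¹ᵁ V) * (g.app V).hom (δ.D V s)
  map_one' := by
    rw [δ.one, map_zero, mul_zero, add_zero, map_one]
  map_zero' := by
    rw [map_zero, map_zero, map_zero, mul_zero, add_zero]
  map_add' a b := by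
    rw [map_add, map_add, map_add]
    ring
  map_mul' a b := by
    have h := epsRes_mul_self ε hε (g ⁻¹ᵁ V)
    rw [δ.mul, map_mul, map_add, map_mul, map_mul]
    linear_combination (-(g.app V).hom (δ.D V a) * (g.app V).hom (δ.D V b)) * h

lemma twistApp_apply (V : X.Opens) (s : Γ(X, V)) :
    twistApp g ε hε δ V s =
      (g.app V).hom s + epsRes ε (g ⁻¹ᵁ V) * (g.app V).hom (δ.D V s) := rfl

lemma twistApp_res {U V : X.Opens} (h : V ≤ U) (s : Γ(X, U)) :
    twistApp g ε hε δ V ((X.presheaf.map (homOfLE h).op).hom s) =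
      (T.presheaf.map (homOfLE (g.preimage_mono h)).op).hom (twistApp g ε hε δ U s) := by
  rw [twistApp_apply, twistApp_apply, map_add, map_mul, δ.res h, epsRes_res]
  have h1 := g.naturality (homOfLE h).op
  have h2 := fun t => ConcreteCategory.congr_hom h1 t
  simp only [CommRingCat.comp_apply] at h2
  rw [h2, h2]
  rfl

/-- the twisted comorphism -/
noncomputable def twistC : X.presheaf ⟶ g.base _* T.presheaf where
  app V := CommRingCat.ofHom (twistApp g ε hε δ V.unop)
  naturality V V' f := by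
    obtain ⟨V⟩ := V
    obtain ⟨V'⟩ := V'
    have hf : f = (homOfLE (leOfHom f.unop)).op := rfl
    ext s
    rw [hf]
    exact twistApp_res g ε hε δ (leOfHom f.unop) s

lemma twistC_app (V : X.Opens) (s : Γ(X, V)) :
    ((twistC g ε hε δ).app (op V)).hom s = twistApp g ε hε δ V s := rfl

/-- the twisted morphism of presheafed spaces -/
noncomputable def twistPsh : T.toPresheafedSpace.Hom X.toPresheafedSpace :=
  ⟨g.base, twistC g ε hε δ⟩

lemma isLocalHom_twist (p : T) :
    IsLocalHom ((twistPsh g ε hε δ).stalkMap p).hom := by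
  constructor
  intro a ha
  obtain ⟨V, hpV, s, rfl⟩ := TopCat.Presheaf.exists_germ_eq X.presheaf a
  have h1 := PresheafedSpace.stalkMap_germ_apply (twistPsh g ε hε δ) V p hpV s
  have hpV' : g.base p ∈ V := hpV
  change IsUnit ((X.presheaf.germ V (g.base p) hpV').hom s)
  have h2 : IsUnit ((T.presheaf.germ (g ⁻¹ᵁ V) p hpV').hom (twistApp g ε hε δ V s)) := by
    have h3 : (T.presheaf.germ (g ⁻¹ᵁ V) p hpV').hom (twistApp g ε hε δ V s) =
        ((twistPsh g ε hε δ).stalkMap p).hom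
          ((X.presheaf.germ V (g.base p) hpV').hom s) := h1.symm
    rw [h3]
    exact ha
  rw [twistApp_apply, map_add, map_mul] at h2
  set u := (T.presheaf.germ (g ⁻¹ᵁ V) p hpV').hom ((g.app V).hom s) with hu
  set e := (T.presheaf.germ (g ⁻¹ᵁ V) p hpV').hom (epsRes ε (g ⁻¹ᵁ V)) with he
  set w := (T.presheaf.germ (g ⁻¹ᵁ V) p hpV').hom ((g.app V).hom (δ.D V s)) with hw
  have hee : e * e = 0 := by
    rw [he, ← map_mul, epsRes_mul_self ε hε, map_zero]
  have hn : IsNilpotent (-(e * w)) := by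
    refine ⟨2, ?_⟩
    have : (-(e * w)) ^ 2 = (e * e) * (w * w) := by ring
    rw [this, hee, zero_mul]
  have h4 : IsUnit (u + e * w + -(e * w)) :=
    IsNilpotent.isUnit_add_left_of_commute hn h2 (Commute.all _ _)
  have h5 : u + e * w + -(e * w) = u := by ring
  rw [h5] at h4
  have h6 : u = (g.stalkMap p).hom ((X.presheaf.germ V (g.base p) hpV').hom s) :=
    (Scheme.Hom.germ_stalkMap_apply g V p hpV' s).symm
  rw [h6] at h4
  exact (isUnit_map_iff (g.stalkMap p).hom _).mp h4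

/-- **The twisted morphism of schemes.** -/
noncomputable def twist : T ⟶ X :=
  Scheme.Hom.mk (LocallyRingedSpace.Hom.mk (twistPsh g ε hε δ) (isLocalHom_twist g ε hε δ))

lemma twist_base : (twist g ε hε δ).base = g.base := rfl

lemma twist_preimage (V : X.Opens) : twist g ε hε δ ⁻¹ᵁ V = g ⁻¹ᵁ V := rfl

lemma twist_app (V : X.Opens) (s : Γ(X, V)) :
    ((twist g ε hε δ).app V).hom s =
      (g.app V).hom s + epsRes ε (g ⁻¹ᵁ V) * (g.app V).hom (δ.D V s) := rfl

lemma twist_appLE {V : X.Opens} {W : T.Opens} (h : W ≤ g ⁻¹ᵁ V) (s : Γ(X, V)) :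
    ((twist g ε hε δ).appLE V W h).hom s =
      (g.appLE V W h).hom s + epsRes ε W * (g.appLE V W h).hom (δ.D V s) := by
  unfold Scheme.Hom.appLE
  rw [CommRingCat.comp_apply, CommRingCat.comp_apply, CommRingCat.comp_apply]
  change (T.presheaf.map (homOfLE h).op).hom (((twist g ε hε δ).app V).hom s) = _
  rw [twist_app, map_add, map_mul, epsRes_res]

end Twist

section Ext

variable {T X : Scheme.{u}}

lemma appLE_congr_hom {q q' : T ⟶ X} (h : q = q') {U : X.Opens} {V : T.Opens}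
    (e : V ≤ q ⁻¹ᵁ U) (e' : V ≤ q' ⁻¹ᵁ U) : q.appLE U V e = q'.appLE U V e' := by
  subst h; rfl

lemma preimage_le_of_base_eq {f g : T ⟶ X} (h_base : f.base = g.base) (V : X.Opens) :
    g ⁻¹ᵁ V ≤ f ⁻¹ᵁ V := by
  intro p hp
  change f.base p ∈ V
  rw [h_base]
  exact hp

/-- extensionality for morphisms of schemes with the same underlying map, via `appLE`. -/
lemma hom_ext_appLE {f g : T ⟶ X} (h_base : f.base = g.base)
    (h : ∀ (V : X.Opens) (s : Γ(X, V)),
      (f.appLE V (g ⁻¹ᵁ V) (preimage_le_of_base_eq h_base V)).hom s = (g.app V).hom s) :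
    f = g := by
  refine Scheme.Hom.ext h_base fun U => ?_
  ext s
  exact h U s

end Ext

section TwistLemmas

variable {T X : Scheme.{u}} (g : T ⟶ X) (ε : Γ(T, ⊤)) (hε : ε * ε = 0) (δ : SelfDer X)

/-- the twist does not change the composite with a morphism to an affine scheme killed by `δ`. -/
lemma twist_comp_of_isAffine {Y : Scheme.{u}} [IsAffine Y] (f : X ⟶ Y)
    (h : ∀ r : Γ(Y, ⊤), δ.D ⊤ (f.appTop.hom r) = 0) :
    twist g ε hε δ ≫ f = g ≫ f := by
  apply ext_of_isAffine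
  ext r
  change ((twist g ε hε δ).app ⊤).hom (f.appTop.hom r) = (g.app ⊤).hom (f.appTop.hom r)
  rw [twist_app, h, map_zero, mul_zero, add_zero]

/-- composing with a morphism killing `ε` removes the twist. -/
lemma comp_twist_of_eps_zero {Z : Scheme.{u}} (j : Z ⟶ T) (hj : j.appTop.hom ε = 0) :
    j ≫ twist g ε hε δ = j ≫ g := by
  refine hom_ext_appLE rfl fun V s => ?_
  have h0 : (j.app (g ⁻¹ᵁ V)).hom (epsRes ε (g ⁻¹ᵁ V)) = 0 := by
    unfold epsRes
    have h1 := j.naturality (homOfLE (le_top : g ⁻¹ᵁ V ≤ ⊤)).op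
    have h2 := ConcreteCategory.congr_hom h1 ε
    simp only [CommRingCat.comp_apply] at h2
    rw [h2]
    change (Z.presheaf.map _).hom (j.appTop.hom ε) = 0
    rw [hj, map_zero]
  have h3 : (j ≫ twist g ε hε δ).appLE V ((j ≫ g) ⁻¹ᵁ V)
      (preimage_le_of_base_eq (f := j ≫ twist g ε hε δ) (g := j ≫ g) rfl V) =
      (j ≫ twist g ε hε δ).app V := (Scheme.Hom.app_eq_appLE (j ≫ twist g ε hε δ)).symm
  rw [h3]
  change (j.app (g ⁻¹ᵁ V)).hom (((twist g ε hε δ).app V).hom s) =
    (j.app (g ⁻¹ᵁ V)).hom ((g.app V).hom s)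
  rw [twist_app, map_add, map_mul, h0, zero_mul, add_zero]

/-- if the twist is trivial then `ε • g^♯ (D s) = 0`. -/
lemma eps_mul_eq_zero_of_twist_eq (h : twist g ε hε δ = g) (V : X.Opens) (s : Γ(X, V)) :
    epsRes ε (g ⁻¹ᵁ V) * (g.app V).hom (δ.D V s) = 0 := by
  have h1 : (twist g ε hε δ).appLE V (g ⁻¹ᵁ V) le_rfl = g.appLE V (g ⁻¹ᵁ V) le_rfl :=
    appLE_congr_hom h _ _
  have h2 := ConcreteCategory.congr_hom h1 s
  change ((twist g ε hε δ).appLE V (g ⁻¹ᵁ V) le_rfl).hom s = (g.appLE V (g ⁻¹ᵁ V) le_rfl).hom s at h2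
  rw [twist_appLE, ← Scheme.Hom.app_eq_appLE] at h2
  exact add_left_cancel (h2.trans (add_zero _).symm)

/-- an endomorphism `e` of `T` fixing `ε` with `e ≫ g` the twist by `δ` undoes the twist by `-δ`. -/
lemma comp_twist_neg (δ' : SelfDer X) (hδ' : ∀ (V : X.Opens) (s : Γ(X, V)), δ'.D V s = -δ.D V s)
    (e : T ⟶ T) (he : e ≫ g = twist g ε hε δ) (hee : e.appTop.hom ε = ε)
    (hb : ∀ W : T.Opens, W ≤ e ⁻¹ᵁ W) :
    e ≫ twist g ε hε δ' = g := by
  have h_base0 : (e ≫ g).base = (twist g ε hε δ).base :=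
    congrArg (fun q : T ⟶ X => q.base) he
  have h_base : (e ≫ twist g ε hε δ').base = g.base := h_base0
  refine hom_ext_appLE h_base fun V s => ?_
  have h1 : ((e ≫ twist g ε hε δ').appLE V (g ⁻¹ᵁ V) (preimage_le_of_base_eq h_base V)).hom s =
      (e.appLE (g ⁻¹ᵁ V) (g ⁻¹ᵁ V) (hb _)).hom (((twist g ε hε δ').app V).hom s) :=
    ConcreteCategory.congr_hom
      (Scheme.Hom.comp_appLE e (twist g ε hε δ') V (g ⁻¹ᵁ V) (hb _)) s
  rw [h1, twist_app, map_add, map_mul]
  -- `E ∘ g^♯` is the twist by `δ`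
  have h2 : ∀ t : Γ(X, V), (e.appLE (g ⁻¹ᵁ V) (g ⁻¹ᵁ V) (hb _)).hom ((g.app V).hom t) =
      (g.app V).hom t + epsRes ε (g ⁻¹ᵁ V) * (g.app V).hom (δ.D V t) := by
    intro t
    have h3 : (e.appLE (g ⁻¹ᵁ V) (g ⁻¹ᵁ V) (hb _)).hom ((g.app V).hom t) =
        ((e ≫ g).appLE V (g ⁻¹ᵁ V) (hb _)).hom t :=
      (ConcreteCategory.congr_hom (Scheme.Hom.comp_appLE e g V (g ⁻¹ᵁ V) (hb _)) t).symm
    have h4 : (e ≫ g).appLE V (g ⁻¹ᵁ V) (hb _) = (twist g ε hε δ).appLE V (g ⁻¹ᵁ V) le_rfl :=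
      appLE_congr_hom he _ _
    rw [h3, h4, twist_appLE, ← Scheme.Hom.app_eq_appLE]
  -- `E` fixes `ε`
  have h6 : (e.appLE (g ⁻¹ᵁ V) (g ⁻¹ᵁ V) (hb _)).hom (epsRes ε (g ⁻¹ᵁ V)) =
      epsRes ε (g ⁻¹ᵁ V) := by
    unfold epsRes
    have h7 : T.presheaf.map (homOfLE (le_top : g ⁻¹ᵁ V ≤ ⊤)).op ≫
        e.appLE (g ⁻¹ᵁ V) (g ⁻¹ᵁ V) (hb _) =
        e.appTop ≫ T.presheaf.map (homOfLE (le_top : g ⁻¹ᵁ V ≤ ⊤)).op := by
      rw [Scheme.Hom.map_appLE]
      have h8 : e.appTop = e.appLE ⊤ ⊤ le_top := Scheme.Hom.app_eq_appLE e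
      rw [h8, Scheme.Hom.appLE_map]
    have h9 := ConcreteCategory.congr_hom h7 ε
    rw [CommRingCat.comp_apply, CommRingCat.comp_apply, hee] at h9
    exact h9
  rw [h2, h2, h6]
  have hεε := epsRes_mul_self ε hε (g ⁻¹ᵁ V)
  simp only [hδ', map_neg]
  linear_combination (-(g.app V).hom (δ.D V (δ.D V s))) * hεε

end TwistLemmas

end Groth.Agent.H61.Aut
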