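import Mathlib
import Groth.Prelude.Def_ArtFun4
import Groth.Agent.H61.Aut.Twist
import Groth.Agent.H61.Aut.Sections
import Groth.Agent.H61.Hull.ToExt
import Groth.Agent.H61.DefAlg.FlatColon
import Groth.Agent.H44.OmegaUniversal

set_option linter.style.haveILetI false
set_option linter.unusedSectionVars false
set_option autoImplicit false

/-!
# The automorphism of the trivial first-order deformation attached to a vector field
-/

open AlgebraicGeometry CategoryTheory CategoryTheory.Limits Opposite TopologicalSpace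

namespace Groth.Agent.H61.Aut

universe u

open ArtFun ArtFun.Art Groth.Agent.H61.AffThick Groth.Agent.H61.DefAlg Groth.Agent.H61.Hull
open Groth.Agent.H44

variable {k : Type u} [Field k] {X : Scheme.{u}} {x : X ⟶ specPt k}

/-- the family of self-maps of the structure sheaf attached to a derivation `O_X → O_X`. -/
noncomputable def selfDer (D : OmegaSh.Der x (Coh.structureModule X)) : SelfDer X where
  D V := (OmegaSh.fnSect X V).comp (D.app V)
  mul V a b := by
    change OmegaSh.fnSect X V (D.app V (a * b)) = _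
    rw [Der_app_mul]
    rfl
  res {U V} h s := by
    change OmegaSh.fnSect X V (D.app V ((X.presheaf.map (homOfLE h).op).hom s)) = _
    have := Der_app_map D h s
    erw [this]
    rfl

lemma selfDer_D (D : OmegaSh.Der x (Coh.structureModule X)) (V : X.Opens) (s : Γ(X, V)) :
    (selfDer D).D V s = OmegaSh.fnSect X V (D.app V s) := rfl

section Ring

/-- flatness over a local ring: if `φ a * y = 0` with `a ≠ 0` then `y ∈ 𝔪 E`. -/
lemma mem_map_maximalIdeal_of_mul_eq_zero {A E : Type u} [CommRing A] [IsLocalRing A] [CommRing E]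
    (φ : A →+* E) (hφ : φ.Flat) (a : A) (ha : a ≠ 0) (y : E) (h : φ a * y = 0) :
    y ∈ (IsLocalRing.maximalIdeal A).map φ := by
  letI : Algebra A E := φ.toAlgebra
  haveI : Module.Flat A E := hφ
  have h1 : a • y ∈ (⊥ : Ideal A) • (⊤ : Submodule A E) := by
    rw [Submodule.bot_smul, Submodule.mem_bot, Algebra.smul_def]
    exact h
  have h2 := mem_colon_smul_top_of_flat ⊥ a y h1
  have h3 : colon (⊥ : Ideal A) a ≤ IsLocalRing.maximalIdeal A := by
    apply IsLocalRing.le_maximalIdeal
    intro htop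
    have : (1 : A) ∈ colon ⊥ a := by rw [htop]; trivial
    rw [mem_colon, mul_one, Ideal.mem_bot] at this
    exact ha this
  have h4 := Submodule.smul_mono_left h3 h2
  rw [Ideal.smul_top_eq_map, Submodule.restrictScalars_mem] at h4
  exact h4

lemma eq_zero_of_app_eq_zero {X : Scheme.{u}} (q : X ⟶ X) (hq : q = 𝟙 X) (V : X.Opens)
    (t : Γ(X, V)) (h : (q.app V).hom t = 0) : t = 0 := by
  subst hq
  rw [Scheme.Hom.id_app] at h
  exact h

end Ring

section Triv

variable {A : Art k k} (ξ : DefSch X x A) (p : ξ.total ⟶ X)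
  (hp : IsPullback p ξ.f x (specMap (ofBase A))) (hip : ξ.i ≫ p = 𝟙 X)
  (a : A) (ha : a * a = 0) (hres : A.res a = 0)

/-- `a` as a global section of the deformation. -/
noncomputable def gEps : Γ(ξ.total, ⊤) := str ξ ⊤ a

include ha in
lemma gEps_mul_self : gEps ξ a * gEps ξ a = 0 := by
  unfold gEps
  rw [← map_mul, ha, map_zero]

lemma epsRes_gEps (W : ξ.total.Opens) : epsRes (gEps ξ a) W = str ξ W a :=
  str_res ξ le_top a

include hres in
lemma i_appTop_gEps : ξ.i.appTop.hom (gEps ξ a) = 0 := by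
  have h1 := aug_str ξ ⊤ a
  rw [hres, map_zero, map_zero] at h1
  exact h1

variable (δ : SelfDer X) (hδ : ∀ r : Γ(specPt k, ⊤), δ.D ⊤ (x.appTop.hom r) = 0)

/-- the twisted projection. -/
noncomputable def twFst : ξ.total ⟶ X :=
  twist p (gEps ξ a) (gEps_mul_self ξ a ha) δ

include hδ in
lemma twFst_comp : twFst ξ p a ha δ ≫ x = p ≫ x :=
  twist_comp_of_isAffine _ _ _ _ x hδ

/-- the endomorphism of the trivial deformation attached to a derivation. -/
noncomputable def endo : ξ.total ⟶ ξ.total :=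
  hp.lift (twFst ξ p a ha δ) ξ.f (by
    rw [twFst_comp ξ p a ha δ hδ]
    exact hp.w)

lemma endo_fst : endo ξ p hp a ha δ hδ ≫ p = twFst ξ p a ha δ := hp.lift_fst _ _ _

lemma endo_f : endo ξ p hp a ha δ hδ ≫ ξ.f = ξ.f := hp.lift_snd _ _ _

include hres in
lemma i_endo : ξ.i ≫ endo ξ p hp a ha δ hδ = ξ.i := by
  apply hp.hom_ext
  · rw [Category.assoc, endo_fst]
    exact comp_twist_of_eps_zero _ _ _ _ _ (i_appTop_gEps ξ a hres)
  · rw [Category.assoc, endo_f]

include hres in
lemma endo_appTop_gEps : (endo ξ p hp a ha δ hδ).appTop.hom (gEps ξ a) = gEps ξ a := by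
  have h1 := sec_str ξ (endo ξ p hp a ha δ hδ) (endo_f ξ p hp a ha δ hδ)
    (i_endo ξ p hp a ha hres δ hδ) ⊤ a
  unfold sec at h1
  have h2 : (endo ξ p hp a ha δ hδ).appTop =
      (endo ξ p hp a ha δ hδ).appLE ⊤ ⊤ le_top := Scheme.Hom.app_eq_appLE _
  rw [h2]
  exact h1

include hres in
/-- the endomorphisms attached to `δ` and `-δ` are mutually inverse. -/
lemma endo_comp (δ' : SelfDer X) (hδ' : ∀ r : Γ(specPt k, ⊤), δ'.D ⊤ (x.appTop.hom r) = 0)
    (hneg : ∀ (V : X.Opens) (s : Γ(X, V)), δ'.D V s = -δ.D V s) :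
    endo ξ p hp a ha δ hδ ≫ endo ξ p hp a ha δ' hδ' = 𝟙 _ := by
  apply hp.hom_ext
  · rw [Category.assoc, endo_fst, Category.id_comp]
    exact comp_twist_neg p (gEps ξ a) (gEps_mul_self ξ a ha) δ δ' hneg _
      (endo_fst ξ p hp a ha δ hδ) (endo_appTop_gEps ξ p hp a ha hres δ hδ)
      (le_preimage ξ _ (i_endo ξ p hp a ha hres δ hδ))
  · rw [Category.assoc, endo_f, endo_f, Category.id_comp]

include hres in
/-- the automorphism of the deformation attached to a derivation. -/
noncomputable def endoIso : ξ.Iso ξ where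
  iso :=
    { hom := endo ξ p hp a ha δ hδ
      inv := endo ξ p hp a ha δ.neg (fun r => by rw [SelfDer.neg_D, hδ, neg_zero])
      hom_inv_id := endo_comp ξ p hp a ha hres δ hδ δ.neg _ (fun V s => rfl)
      inv_hom_id := endo_comp ξ p hp a ha hres δ.neg _ δ hδ (fun V s => by
        rw [SelfDer.neg_D, neg_neg]) }
  hom_f := endo_f ξ p hp a ha δ hδ
  i_hom := i_endo ξ p hp a ha hres δ hδ

include hip in
/-- if the automorphism attached to `δ` is trivial, then `δ` vanishes on affine opens. -/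
theorem D_eq_zero_of_endo_eq_id (ha0 : a ≠ 0) (h : endo ξ p hp a ha δ hδ = 𝟙 _)
    {V : X.Opens} (hV : IsAffineOpen V) (s : Γ(X, V)) : δ.D V s = 0 := by
  have h1 : twist p (gEps ξ a) (gEps_mul_self ξ a ha) δ = p := by
    have := endo_fst ξ p hp a ha δ hδ
    rw [h, Category.id_comp] at this
    exact this.symm
  have h2 := eps_mul_eq_zero_of_twist_eq p (gEps ξ a) (gEps_mul_self ξ a ha) δ h1 V s
  rw [epsRes_gEps] at h2
  haveI : IsAffineHom p :=
    MorphismProperty.of_isPullback (P := @IsAffineHom) hp.flip inferInstance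
  have hW : IsAffineOpen (p ⁻¹ᵁ V) := hV.preimage p
  have h3 := mem_map_maximalIdeal_of_mul_eq_zero (str ξ (p ⁻¹ᵁ V)) (str_flat ξ hW) a ha0 _ h2
  rw [← ker_aug ξ hW] at h3
  have h4 : ((ξ.i ≫ p).app V).hom (δ.D V s) = 0 := h3
  exact eq_zero_of_app_eq_zero _ hip V _ h4

end Triv

end Groth.Agent.H61.Aut
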