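import Groth.Agent.H61.Aut.Alg
import Groth.Agent.H61.Aut.Sections
import Groth.Agent.H61.Aut.Chart

set_option linter.style.haveILetI false
set_option linter.unusedSectionVars false
set_option autoImplicit false

/-!
# No infinitesimal automorphisms: `Hom(Ω_{X/k}, O_X) = 0` forces automorphisms of deformations
to be trivial
-/

open AlgebraicGeometry CategoryTheory CategoryTheory.Limits Opposite TopologicalSpace

namespace Groth.Agent.H61.Aut

universe u

open ArtFun ArtFun.Art Groth.Agent.H61.AffThick Groth.Agent.H61.DefAlg IsLocalRing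

section Ideal

variable {A : Type u} [CommRing A] [IsLocalRing A] [IsNoetherianRing A]

/-- every nonzero ideal inside the maximal ideal admits a step below it. -/
theorem exists_step (𝔞 : Ideal A) (h0 : 𝔞 ≠ ⊥) (hle : 𝔞 ≤ maximalIdeal A) :
    ∃ (𝔞' : Ideal A) (t : A), Step 𝔞 𝔞' t := by
  have hne : ¬ 𝔞 ≤ maximalIdeal A • 𝔞 := by
    intro h
    apply h0
    exact Submodule.eq_bot_of_le_smul_of_le_jacobson_bot (maximalIdeal A) 𝔞
      (IsNoetherian.noetherian 𝔞) h
      (by rw [IsLocalRing.jacobson_eq_maximalIdeal ⊥ bot_ne_top])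
  obtain ⟨t, ht, htn⟩ := Set.not_subset.mp hne
  let 𝒥 : Set (Ideal A) := {J | maximalIdeal A * 𝔞 ≤ J ∧ J ≤ 𝔞 ∧ t ∉ J}
  have h𝒥 : 𝒥.Nonempty := ⟨maximalIdeal A * 𝔞, le_rfl, Ideal.mul_le_right, htn⟩
  obtain ⟨J, ⟨hJ1, hJ2, hJ3⟩, hJmax⟩ :=
    set_has_maximal_iff_noetherian.mpr (inferInstance : IsNoetherian A A) 𝒥 h𝒥
  refine ⟨J, t, ?_, hJ3, hJ1, hle⟩
  apply le_antisymm
  · intro y hy
    by_contra hyn
    -- `J + (y)` is a strictly bigger member of the family
    have hlt : J < J ⊔ Ideal.span {y} := by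
      refine lt_of_le_of_ne le_sup_left ?_
      intro heq
      apply hyn
      have : y ∈ J := by
        rw [heq]
        exact Ideal.mem_sup_right (Ideal.mem_span_singleton_self y)
      exact Ideal.mem_sup_left this
    apply hJmax (J ⊔ Ideal.span {y}) ?_ hlt
    refine ⟨hJ1.trans le_sup_left, sup_le hJ2 ((Ideal.span_singleton_le_iff_mem _).mpr hy), ?_⟩
    intro htm
    obtain ⟨j, hj, z, hz, hjz⟩ := Submodule.mem_sup.mp htm
    obtain ⟨a, rfl⟩ := Ideal.mem_span_singleton'.mp hz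
    by_cases ha : a ∈ maximalIdeal A
    · apply hJ3
      rw [← hjz]
      exact Ideal.add_mem _ hj (hJ1 (Ideal.mul_mem_mul ha hy))
    · have hau : IsUnit a := by
        by_contra h
        exact ha ((IsLocalRing.mem_maximalIdeal a).mpr h)
      obtain ⟨u, rfl⟩ := hau
      apply hyn
      have : y = ↑u⁻¹ * t - ↑u⁻¹ * j := by
        rw [← hjz]
        have := u.inv_mul
        linear_combination (-y) * this
      rw [this]
      exact Ideal.sub_mem _
        (Ideal.mem_sup_right (Ideal.mul_mem_left _ _ (Ideal.mem_span_singleton_self t)))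
        (Ideal.mem_sup_left (Ideal.mul_mem_left _ _ hj))
  · exact sup_le hJ2 ((Ideal.span_singleton_le_iff_mem _).mpr ht)

end Ideal

variable {Λ : Type u} {k : Type u} [CommRing Λ] [Field k] [Algebra Λ k]
variable {X : Scheme.{u}} {x : X ⟶ specPt k} {A : Art Λ k} (ξ : DefSch X x A)
variable (ψ : ξ.total ⟶ ξ.total) (hf : ψ ≫ ξ.f = ξ.f) (hi : ξ.i ≫ ψ = ξ.i)

/-- the `A`-algebra structure on sections of the total space. -/
@[instance_reducible] noncomputable def algSec (U' : ξ.total.Opens) : Algebra A Γ(ξ.total, U') := (str ξ U').toAlgebra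

attribute [local instance] algSec

lemma algebraMap_sec (U' : ξ.total.Opens) (a : A) :
    algebraMap A Γ(ξ.total, U') a = str ξ U' a := rfl

/-- the congruence property. -/
def Cong (𝔞 : Ideal A) : Prop :=
  ∀ (c : ξ.total.affineOpens) (s : Γ(ξ.total, c.1)),
    sec ξ ψ hi c.1 s - s ∈ 𝔞.map (algebraMap A Γ(ξ.total, c.1))

lemma cong_max : Cong ξ ψ hi (maximalIdeal A) := by
  intro c s
  change _ ∈ (maximalIdeal A).map (str ξ c.1)
  rw [← ker_aug ξ c.2, RingHom.mem_ker, map_sub, aug_sec, sub_self]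

/-- the local datum over an affine open. -/
noncomputable def loc {𝔞 : Ideal A} (hP : Cong ξ ψ hi 𝔞) (c : ξ.total.affineOpens) :
    Loc A 𝔞 Γ(ξ.total, c.1) Γ(X, ξ.i ⁻¹ᵁ c.1) where
  π := (ξ.i.app c.1).hom
  φ := { sec ξ ψ hi c.1 with commutes' := fun a => sec_str ξ ψ hf hi c.1 a }
  flat := str_flat ξ c.2
  surj := aug_surjective ξ c.2
  ker := ker_aug ξ c.2
  πφ := aug_sec ξ ψ hi c.1
  cong := hP c

variable [QuasiSeparated x]

include hf in
/-- **one step of the induction.** -/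
theorem cong_step (H0 : Subsingleton (Omega.sheaf x ⟶ Coh.structureModule X))
    {𝔞 𝔞' : Ideal A} {t : A} (S : Step 𝔞 𝔞' t) (hP : Cong ξ ψ hi 𝔞) : Cong ξ ψ hi 𝔞' := by
  haveI := DefSch.isClosedImmersion_i ξ
  let B : ξ.total.affineOpens → X.Opens := fun c => ξ.i ⁻¹ᵁ c.1
  let D : ∀ c : ξ.total.affineOpens, Γ(X, B c) → Γ(X, B c) :=
    fun c => (loc ξ ψ hf hi hP c).Dfun S
  have hlin : ∀ (c : ξ.total.affineOpens) (r : Γ(specPt k, ⊤)),
      D c (x.appLE ⊤ (B c) le_top r) = 0 := by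
    intro c r
    obtain ⟨c₀, rfl⟩ : ∃ c₀ : k, (Scheme.ΓSpecIso (CommRingCat.of k)).inv.hom c₀ = r :=
      (ConcreteCategory.bijective_of_isIso (Scheme.ΓSpecIso (CommRingCat.of k)).inv).2 r
    obtain ⟨a, rfl⟩ := A.res_surjective c₀
    have h1 := aug_str ξ c.1 a
    have h2 := (loc ξ ψ hf hi hP c).Dfun_algebraMap S a
    change (loc ξ ψ hf hi hP c).Dfun S ((ξ.i.app c.1).hom (str ξ c.1 a)) = 0 at h2
    rw [h1] at h2
    exact h2
  have hres : ∀ (c c' : ξ.total.affineOpens) (h : B c' ≤ B c) (s : Γ(X, B c)),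
      D c' (X.presheaf.map (homOfLE h).op s) = X.presheaf.map (homOfLE h).op (D c s) := by
    intro c c' h s
    have hle : c'.1 ≤ c.1 := le_of_preimage_le ξ h
    let ρ : Γ(ξ.total, c.1) →ₐ[A] Γ(ξ.total, c'.1) :=
      { (ξ.total.presheaf.map (homOfLE hle).op).hom with
        commutes' := fun a => str_res ξ hle a }
    refine (loc ξ ψ hf hi hP c).Dfun_map S (loc ξ ψ hf hi hP c') ρ
      (X.presheaf.map (homOfLE h).op).hom ?_ ?_ s
    · intro s'
      have := ξ.i.naturality (homOfLE hle).op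
      exact ConcreteCategory.congr_hom this s'
    · intro s'
      exact sec_res ξ ψ hi hle s'
  obtain ⟨α, hα⟩ := exists_hom_of_local_derivations x B (isBasis_preimage_affine ξ)
    (fun c => c.2.preimage ξ.i) (fun _ => ⊤) (fun _ => isAffineOpen_top _) (fun _ => le_top) D
    (fun c => (loc ξ ψ hf hi hP c).Dfun_add S) (fun c => (loc ξ ψ hf hi hP c).Dfun_mul S)
    hlin hres
  have hα0 : α = 0 := Subsingleton.elim _ _
  intro c s
  refine (loc ξ ψ hf hi hP c).sub_mem_of_Dfun_eq_zero S ?_ s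
  intro b
  have h1 := hα c b
  rw [hα0] at h1
  exact h1.symm

include hf hi in
/-- **Rigidity of automorphisms.** -/
theorem eq_id_of_subsingleton (H0 : Subsingleton (Omega.sheaf x ⟶ Coh.structureModule X)) :
    ψ = 𝟙 _ := by
  haveI : IsNoetherianRing A := inferInstance
  let 𝒮 : Set (Ideal A) := {𝔞 | 𝔞 ≤ maximalIdeal A ∧ Cong ξ ψ hi 𝔞}
  have h𝒮 : 𝒮.Nonempty := ⟨maximalIdeal A, le_rfl, cong_max ξ ψ hi⟩
  obtain ⟨𝔞₀, ⟨h1, h2⟩, hmin⟩ := IsArtinian.set_has_minimal 𝒮 h𝒮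
  have h0 : 𝔞₀ = ⊥ := by
    by_contra hne
    obtain ⟨𝔞', t, S⟩ := exists_step 𝔞₀ hne h1
    have hlt : 𝔞' < 𝔞₀ := by
      refine lt_of_le_of_ne S.le ?_
      intro heq
      apply S.not_mem
      rw [heq]
      exact S.mem
    exact hmin 𝔞' ⟨S.le.trans h1, cong_step ξ ψ hf hi H0 S h2⟩ hlt
  apply eq_id_of_sec ξ ψ hi
  intro U' hU' s
  have := h2 ⟨U', hU'⟩ s
  rw [h0, Ideal.map_bot, Ideal.mem_bot, sub_eq_zero] at this
  exact this

end Groth.Agent.H61.Aut
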